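import Mathlib
import Cfsg.Prelude.Def_LieExceptional
import Cfsg.Prelude.Def_ParabolicCharacters

/-!
# Monomial matrices and permutation matrices in `GL_n(F)`

Preparation for the (B,N)-pair of `GL_n(F)`: `B` upper triangular, `N` monomial.
-/

set_option autoImplicit false

namespace Cfsg.Agent.Lib.Helper5.GLBN

open Matrix
open scoped MatrixGroups

variable {n : ℕ} {F : Type*} [Field F]

/-- the permutation matrix with `pm σ i j = [i = σ j]` -/
def pm (σ : Equiv.Perm (Fin n)) : Matrix (Fin n) (Fin n) F := Equiv.Perm.permMatrix F σ⁻¹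

theorem pm_apply (σ : Equiv.Perm (Fin n)) (i j : Fin n) :
    (pm σ : Matrix (Fin n) (Fin n) F) i j = if i = σ j then 1 else 0 := by
  unfold pm Equiv.Perm.permMatrix
  rw [PEquiv.toMatrix_apply]
  simp only [Equiv.toPEquiv_apply, Option.mem_def, Option.some.injEq]
  by_cases h : i = σ j
  · rw [if_pos h, if_pos]
    rw [h]; simp
  · rw [if_neg h, if_neg]
    intro h2
    apply h
    rw [← h2]; simp

theorem pm_mul_apply (σ : Equiv.Perm (Fin n)) (M : Matrix (Fin n) (Fin n) F) (i j : Fin n) :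
    ((pm σ : Matrix (Fin n) (Fin n) F) * M) i j = M (σ⁻¹ i) j := by
  unfold pm Equiv.Perm.permMatrix
  rw [PEquiv.toMatrix_toPEquiv_mul]
  rfl

theorem mul_pm_apply (σ : Equiv.Perm (Fin n)) (M : Matrix (Fin n) (Fin n) F) (i j : Fin n) :
    (M * (pm σ : Matrix (Fin n) (Fin n) F)) i j = M i (σ j) := by
  unfold pm Equiv.Perm.permMatrix
  rw [PEquiv.mul_toMatrix_toPEquiv]
  show M i ((Equiv.symm σ⁻¹) j) = M i (σ j)
  congr 1

theorem pm_mul (σ τ : Equiv.Perm (Fin n)) :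
    (pm σ : Matrix (Fin n) (Fin n) F) * pm τ = pm (σ * τ) := by
  unfold pm
  rw [_root_.mul_inv_rev, Matrix.permMatrix_mul]

theorem pm_one : (pm (1 : Equiv.Perm (Fin n)) : Matrix (Fin n) (Fin n) F) = 1 := by
  ext i j
  rw [pm_apply, Matrix.one_apply]
  by_cases h : i = j <;> simp [h]

/-- permutation matrices as a homomorphism into `GL_n(F)` -/
def permGL : Equiv.Perm (Fin n) →* GL (Fin n) F where
  toFun σ := ⟨pm σ, pm σ⁻¹, by rw [pm_mul, mul_inv_cancel, pm_one],
    by rw [pm_mul, inv_mul_cancel, pm_one]⟩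
  map_one' := Units.ext pm_one
  map_mul' σ τ := Units.ext (pm_mul σ τ).symm

theorem permGL_coe (σ : Equiv.Perm (Fin n)) :
    ((permGL σ : GL (Fin n) F) : Matrix (Fin n) (Fin n) F) = pm σ := rfl

/-- `M` is monomial with permutation `σ`: column `j` is supported in row `σ j` -/
def IsMono (M : Matrix (Fin n) (Fin n) F) (σ : Equiv.Perm (Fin n)) : Prop :=
  ∀ i j, i ≠ σ j → M i j = 0

theorem isMono_pm (σ : Equiv.Perm (Fin n)) : IsMono (pm σ : Matrix (Fin n) (Fin n) F) σ := by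
  intro i j h
  rw [pm_apply, if_neg h]

theorem IsMono.mul_apply {M M' : Matrix (Fin n) (Fin n) F} {τ : Equiv.Perm (Fin n)}
    (h' : IsMono M' τ) (i j : Fin n) : (M * M') i j = M i (τ j) * M' (τ j) j := by
  rw [Matrix.mul_apply, Finset.sum_eq_single (τ j)]
  · intro k _ hk
    rw [h' k j hk, mul_zero]
  · intro h; exact absurd (Finset.mem_univ _) h

theorem IsMono.apply_mul {M M' : Matrix (Fin n) (Fin n) F} {σ : Equiv.Perm (Fin n)}
    (h : IsMono M σ) (i j : Fin n) : (M * M') i j = M i (σ⁻¹ i) * M' (σ⁻¹ i) j := by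
  rw [Matrix.mul_apply, Finset.sum_eq_single (σ⁻¹ i)]
  · intro k _ hk
    rw [h i k, zero_mul]
    intro h2
    apply hk
    rw [h2]; simp
  · intro h; exact absurd (Finset.mem_univ _) h

theorem IsMono.mul {M M' : Matrix (Fin n) (Fin n) F} {σ τ : Equiv.Perm (Fin n)}
    (h : IsMono M σ) (h' : IsMono M' τ) : IsMono (M * M') (σ * τ) := by
  intro i j hij
  rw [h'.mul_apply, h i (τ j) hij, zero_mul]

theorem isMono_one : IsMono (1 : Matrix (Fin n) (Fin n) F) 1 := by
  intro i j h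
  rw [Matrix.one_apply, if_neg]
  simpa using h

theorem IsMono.apply_ne_zero {g : GL (Fin n) F} {σ : Equiv.Perm (Fin n)}
    (h : IsMono (g : Matrix (Fin n) (Fin n) F) σ) (j : Fin n) :
    (g : Matrix (Fin n) (Fin n) F) (σ j) j ≠ 0 := by
  intro h0
  have h1 : ((g⁻¹ * g : GL (Fin n) F) : Matrix (Fin n) (Fin n) F) j j = 1 := by
    rw [inv_mul_cancel]; simp
  rw [Units.val_mul, h.mul_apply, h0, mul_zero] at h1
  exact zero_ne_one h1

theorem IsMono.inv {g : GL (Fin n) F} {σ : Equiv.Perm (Fin n)}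
    (h : IsMono (g : Matrix (Fin n) (Fin n) F) σ) :
    IsMono ((g⁻¹ : GL (Fin n) F) : Matrix (Fin n) (Fin n) F) σ⁻¹ := by
  intro i l hil
  -- `l = σ j`
  obtain ⟨j, rfl⟩ : ∃ j, l = σ j := ⟨σ⁻¹ l, by simp⟩
  have hij : i ≠ j := by
    intro e; apply hil; rw [e]; simp
  have h1 : ((g⁻¹ * g : GL (Fin n) F) : Matrix (Fin n) (Fin n) F) i j = 0 := by
    rw [inv_mul_cancel]; simp [hij]
  rw [Units.val_mul, h.mul_apply] at h1
  rcases mul_eq_zero.1 h1 with h2 | h2
  · exact h2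
  · exact absurd h2 (h.apply_ne_zero j)

theorem IsMono.unique {g : GL (Fin n) F} {σ τ : Equiv.Perm (Fin n)}
    (h : IsMono (g : Matrix (Fin n) (Fin n) F) σ) (h' : IsMono (g : Matrix (Fin n) (Fin n) F) τ) :
    σ = τ := by
  ext j
  by_contra hne
  exact h.apply_ne_zero j (h' (σ j) j (fun e => hne (congrArg Fin.val e)))

/-- the monomial subgroup -/
def monoN (n : ℕ) (F : Type*) [Field F] : Subgroup (GL (Fin n) F) where
  carrier := {g | ∃ σ, IsMono (g : Matrix (Fin n) (Fin n) F) σ}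
  mul_mem' := by
    rintro a b ⟨σ, hσ⟩ ⟨τ, hτ⟩
    exact ⟨σ * τ, by rw [Units.val_mul]; exact hσ.mul hτ⟩
  one_mem' := ⟨1, isMono_one⟩
  inv_mem' := by
    rintro a ⟨σ, hσ⟩
    exact ⟨σ⁻¹, hσ.inv⟩

theorem mem_monoN {g : GL (Fin n) F} :
    g ∈ monoN n F ↔ ∃ σ, IsMono (g : Matrix (Fin n) (Fin n) F) σ := Iff.rfl

theorem permGL_mem (σ : Equiv.Perm (Fin n)) : (permGL σ : GL (Fin n) F) ∈ monoN n F :=
  ⟨σ, isMono_pm σ⟩

/-- a permutation with `σ j ≤ j` for all `j` is the identity -/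
theorem perm_eq_one_of_le (σ : Equiv.Perm (Fin n)) (h : ∀ j, σ j ≤ j) : σ = 1 := by
  have hsum : ∑ j, ((σ j : Fin n) : ℕ) = ∑ j, ((j : Fin n) : ℕ) :=
    Equiv.sum_comp σ (fun j : Fin n => (j : ℕ))
  have h2 := (Finset.sum_eq_sum_iff_of_le (s := Finset.univ)
    (f := fun j => ((σ j : Fin n) : ℕ)) (g := fun j => ((j : Fin n) : ℕ))
    (fun j _ => h j)).1 hsum
  ext j
  simpa using h2 j (Finset.mem_univ j)

theorem mem_upper {g : GL (Fin n) F} :
    g ∈ upperTriangularGL n F ↔ ∀ i j : Fin n, j < i → (g : Matrix (Fin n) (Fin n) F) i j = 0 := by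
  constructor
  · intro h i j hij; exact h hij
  · intro h i j hij; exact h i j hij

/-- an upper triangular monomial matrix is diagonal -/
theorem perm_eq_one_of_upper {g : GL (Fin n) F} {σ : Equiv.Perm (Fin n)}
    (h : IsMono (g : Matrix (Fin n) (Fin n) F) σ) (hB : g ∈ upperTriangularGL n F) : σ = 1 := by
  apply perm_eq_one_of_le
  intro j
  by_contra hlt
  rw [not_le] at hlt
  exact h.apply_ne_zero j ((mem_upper.1 hB) (σ j) j hlt)

theorem mem_upper_of_isMono_one {g : GL (Fin n) F}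
    (h : IsMono (g : Matrix (Fin n) (Fin n) F) 1) : g ∈ upperTriangularGL n F := by
  rw [mem_upper]
  intro i j hij
  apply h
  simpa using (ne_of_gt hij)

end Cfsg.Agent.Lib.Helper5.GLBN
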