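import Mathlib
import Cfsg.Agent.Lib.Helper5.GLBN.Basic

/-!
# Transvections in `GL_n(F)` and the rank one computations for the (B,N)-pair
-/

set_option autoImplicit false

namespace Cfsg.Agent.Lib.Helper5.GLBN

open Matrix
open scoped MatrixGroups

variable {n : ℕ} {F : Type*} [Field F]

theorem transvection_apply (i j : Fin n) (c : F) (a b : Fin n) :
    (transvection i j c : Matrix (Fin n) (Fin n) F) a b =
      (if a = b then 1 else 0) + if i = a ∧ j = b then c else 0 := by
  unfold transvection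
  rw [Matrix.add_apply, Matrix.one_apply, Matrix.single_apply]

/-- transvections as elements of `GL_n(F)` -/
def tv (i j : Fin n) (hij : i ≠ j) (c : F) : GL (Fin n) F :=
  ⟨transvection i j c, transvection i j (-c),
    by rw [transvection_mul_transvection_same _ _ hij, add_neg_cancel, transvection_zero],
    by rw [transvection_mul_transvection_same _ _ hij, neg_add_cancel, transvection_zero]⟩

theorem tv_coe (i j : Fin n) (hij : i ≠ j) (c : F) :
    ((tv i j hij c : GL (Fin n) F) : Matrix (Fin n) (Fin n) F) = transvection i j c := rfl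

theorem tv_mul_tv (i j : Fin n) (hij : i ≠ j) (c d : F) :
    tv i j hij c * tv i j hij d = tv i j hij (c + d) := by
  apply Units.ext
  rw [Units.val_mul, tv_coe, tv_coe, tv_coe, transvection_mul_transvection_same _ _ hij]

theorem tv_zero (i j : Fin n) (hij : i ≠ j) : tv i j hij (0 : F) = 1 := by
  apply Units.ext
  rw [tv_coe, transvection_zero]; rfl

theorem tv_mem_upper {i j : Fin n} (hij : i < j) (c : F) :
    tv i j (ne_of_lt hij) c ∈ upperTriangularGL n F := by
  rw [mem_upper]
  intro a b hba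
  rw [tv_coe, transvection_apply, if_neg (ne_of_gt hba), if_neg, add_zero]
  rintro ⟨rfl, rfl⟩
  exact absurd hij (not_lt.2 hba.le)

theorem upper_diag_ne_zero {b : GL (Fin n) F} (hb : b ∈ upperTriangularGL n F) (k : Fin n) :
    (b : Matrix (Fin n) (Fin n) F) k k ≠ 0 := by
  have hdet : (b : Matrix (Fin n) (Fin n) F).det ≠ 0 :=
    (isUnit_iff_ne_zero.1 ((Matrix.isUnit_iff_isUnit_det _).1 b.isUnit))
  have hb' : (b : Matrix (Fin n) (Fin n) F).BlockTriangular id := hb
  rw [Matrix.det_of_isUpperTriangular hb'] at hdet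
  exact fun h0 => hdet (Finset.prod_eq_zero (Finset.mem_univ k) h0)

/-- split off the `(k,k')` root element of an upper triangular matrix -/
theorem exists_split {b : GL (Fin n) F} (hb : b ∈ upperTriangularGL n F) {k k' : Fin n}
    (hk : k < k') :
    ∃ b' ∈ upperTriangularGL n F, ∃ t : F, b = b' * tv k k' (ne_of_lt hk) t ∧
      (b' : Matrix (Fin n) (Fin n) F) k k' = 0 := by
  have h0 := upper_diag_ne_zero hb k
  refine ⟨b * tv k k' (ne_of_lt hk) (-((b : Matrix (Fin n) (Fin n) F) k k' /
      (b : Matrix (Fin n) (Fin n) F) k k)), mul_mem hb (tv_mem_upper hk _),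
    (b : Matrix (Fin n) (Fin n) F) k k' / (b : Matrix (Fin n) (Fin n) F) k k, ?_, ?_⟩
  · rw [mul_assoc, tv_mul_tv, neg_add_cancel, tv_zero, mul_one]
  · rw [Units.val_mul, tv_coe, mul_transvection_apply_same]
    field_simp
    ring

theorem swap_cases {k k' i : Fin n} :
    (i = k ∧ Equiv.swap k k' i = k') ∨ (i = k' ∧ Equiv.swap k k' i = k) ∨
      (i ≠ k ∧ i ≠ k' ∧ Equiv.swap k k' i = i) := by
  by_cases h1 : i = k
  · left; exact ⟨h1, by rw [h1, Equiv.swap_apply_left]⟩
  · by_cases h2 : i = k'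
    · right; left; exact ⟨h2, by rw [h2, Equiv.swap_apply_right]⟩
    · right; right; exact ⟨h1, h2, Equiv.swap_apply_of_ne_of_ne h1 h2⟩

/-- conjugating by an adjacent transposition an upper triangular matrix whose corresponding
entry vanishes -/
theorem swap_conj_mem {b' : GL (Fin n) F} (hb : b' ∈ upperTriangularGL n F) {k k' : Fin n}
    (hk : (k : ℕ) + 1 = k') (h0 : (b' : Matrix (Fin n) (Fin n) F) k k' = 0) :
    permGL (Equiv.swap k k') * b' * permGL (Equiv.swap k k') ∈ upperTriangularGL n F := by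
  rw [mem_upper]
  intro i j hji
  rw [Units.val_mul, Units.val_mul, permGL_coe, mul_pm_apply, pm_mul_apply, Equiv.swap_inv]
  by_cases h : Equiv.swap k k' j < Equiv.swap k k' i
  · exact (mem_upper.1 hb) _ _ h
  · have key : i = k' ∧ j = k := by
      rw [Fin.lt_def] at h hji
      rcases swap_cases (k := k) (k' := k') (i := i) with ⟨hi, hi'⟩ | ⟨hi, hi'⟩ | ⟨hi1, hi2, hi'⟩ <;>
      rcases swap_cases (k := k) (k' := k') (i := j) with ⟨hj, hj'⟩ | ⟨hj, hj'⟩ | ⟨hj1, hj2, hj'⟩ <;>
      rw [hi', hj'] at h <;>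
      simp only [Fin.ext_iff] at * <;>
      omega
    obtain ⟨rfl, rfl⟩ := key
    rw [Equiv.swap_apply_right, Equiv.swap_apply_left]
    exact h0

/-- moving a transvection through a monomial matrix -/
theorem transvection_mul_mono {ν : Matrix (Fin n) (Fin n) F} {σ : Equiv.Perm (Fin n)}
    (hν : IsMono ν σ) (k k' : Fin n) (t : F) (h0 : ν k (σ⁻¹ k) ≠ 0) :
    transvection k k' t * ν =
      ν * transvection (σ⁻¹ k) (σ⁻¹ k') (t * ν k' (σ⁻¹ k') / ν k (σ⁻¹ k)) := by
  ext i j
  by_cases hi : i = k
  · subst hi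
    rw [transvection_mul_apply_same]
    by_cases hj : j = σ⁻¹ k'
    · subst hj
      rw [mul_transvection_apply_same]
      field_simp
    · rw [mul_transvection_apply_of_ne _ _ _ _ hj, hν k' j (by intro e; apply hj; rw [e]; simp),
        mul_zero, add_zero]
  · rw [transvection_mul_apply_of_ne _ _ _ _ hi]
    by_cases hj : j = σ⁻¹ k'
    · subst hj
      rw [mul_transvection_apply_same, hν i (σ⁻¹ k) (by simpa using hi), mul_zero, add_zero]
    · rw [mul_transvection_apply_of_ne _ _ _ _ hj]

/-- the rank one identity: `s x(t) L(-1/t)` is upper triangular -/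
theorem sl2_upper {k k' : Fin n} (hk : (k : ℕ) + 1 = k') (hne : k ≠ k') (t : F) (ht : t ≠ 0) :
    permGL (Equiv.swap k k') * tv k k' hne t * tv k' k hne.symm (-(1 / t)) ∈
      upperTriangularGL n F := by
  rw [mem_upper]
  intro i j hji
  rw [Units.val_mul, Units.val_mul, permGL_coe, tv_coe, tv_coe]
  rw [Fin.lt_def] at hji
  by_cases hj : j = k
  · subst hj
    rw [mul_transvection_apply_same, pm_mul_apply, pm_mul_apply, Equiv.swap_inv,
      transvection_apply, transvection_apply]
    rcases swap_cases (k := j) (k' := k') (i := i) with ⟨hi, hi'⟩ | ⟨hi, hi'⟩ | ⟨hi1, hi2, hi'⟩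
    · exfalso; rw [hi] at hji; omega
    · rw [hi']
      rw [if_pos rfl, if_neg (by rintro ⟨-, h⟩; exact hne h.symm), if_neg hne, if_pos ⟨rfl, rfl⟩]
      field_simp
      ring
    · rw [hi']
      rw [if_neg hi1, if_neg (by rintro ⟨h, -⟩; exact hi1 h.symm), if_neg hi2,
        if_neg (by rintro ⟨h, -⟩; exact hi1 h.symm)]
      ring
  · rw [mul_transvection_apply_of_ne _ _ _ _ hj, pm_mul_apply, Equiv.swap_inv, transvection_apply]
    rcases swap_cases (k := k) (k' := k') (i := i) with ⟨hi, hi'⟩ | ⟨hi, hi'⟩ | ⟨hi1, hi2, hi'⟩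
    · rw [hi']
      rw [if_neg, if_neg, add_zero]
      · rintro ⟨h, -⟩; exact hne h
      · intro h; rw [← h, hi] at hji; omega
    · rw [hi']
      rw [if_neg (fun h => hj h.symm), if_neg, add_zero]
      rintro ⟨-, h⟩
      rw [← h, hi] at hji; omega
    · rw [hi']
      rw [if_neg, if_neg, add_zero]
      · rintro ⟨h, -⟩; exact hi1 h.symm
      · intro h; rw [h] at hji; omega

end Cfsg.Agent.Lib.Helper5.GLBN
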