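import Mathlib
import Cfsg.Agent.Lib.Helper5.GLBN.Trans

/-!
# The (B,N)-pair of `GL_n(F)`
-/

set_option autoImplicit false

namespace Cfsg.Agent.Lib.Helper5.GLBN

open Matrix DoubleCoset
open scoped MatrixGroups

variable {n : ℕ} {F : Type*} [Field F]

/-- the adjacent transposition matrices -/
def adjS (n : ℕ) (F : Type*) [Field F] : Set (GL (Fin n) F) :=
  {g | ∃ k k' : Fin n, (k : ℕ) + 1 = k' ∧ g = permGL (Equiv.swap k k')}

theorem permGL_swap_mul_self (k k' : Fin n) :
    (permGL (Equiv.swap k k') : GL (Fin n) F) * permGL (Equiv.swap k k') = 1 := by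
  rw [← map_mul, Equiv.swap_mul_self, map_one]

theorem tv_mul_mono {ν : GL (Fin n) F} {σ : Equiv.Perm (Fin n)}
    (hν : IsMono (ν : Matrix (Fin n) (Fin n) F) σ) (k k' : Fin n) (hne : k ≠ k') (t : F) :
    ∃ t' : F, tv k k' hne t * ν =
      ν * tv (σ⁻¹ k) (σ⁻¹ k') (fun h => hne (σ⁻¹.injective h)) t' := by
  have h0 : (ν : Matrix (Fin n) (Fin n) F) k (σ⁻¹ k) ≠ 0 := by
    have := hν.apply_ne_zero (σ⁻¹ k)
    simpa using this
  refine ⟨t * (ν : Matrix (Fin n) (Fin n) F) k' (σ⁻¹ k') /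
    (ν : Matrix (Fin n) (Fin n) F) k (σ⁻¹ k), Units.ext ?_⟩
  rw [Units.val_mul, Units.val_mul, tv_coe, tv_coe]
  exact transvection_mul_mono hν k k' t h0

/-- the double coset axiom -/
theorem mul_mem_union_aux {s : GL (Fin n) F} (hs : s ∈ adjS n F) {ν : GL (Fin n) F}
    (hν : ν ∈ monoN n F) {b : GL (Fin n) F} (hb : b ∈ upperTriangularGL n F) :
    s * b * ν ∈ doubleCoset (s * ν) (upperTriangularGL n F : Set (GL (Fin n) F))
        (upperTriangularGL n F) ∪
      doubleCoset ν (upperTriangularGL n F : Set (GL (Fin n) F)) (upperTriangularGL n F) := by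
  obtain ⟨k, k', hk, rfl⟩ := hs
  obtain ⟨σ, hσ⟩ := hν
  have hlt : k < k' := by rw [Fin.lt_def]; omega
  have hne : k ≠ k' := ne_of_lt hlt
  obtain ⟨b', hb', t, rfl, h0⟩ := exists_split hb hlt
  set s := (permGL (Equiv.swap k k') : GL (Fin n) F) with hs
  have hss : s * s = 1 := permGL_swap_mul_self k k'
  have hc : s * b' * s ∈ upperTriangularGL n F := swap_conj_mem hb' hk h0
  have e1 : s * (b' * tv k k' hne t) * ν = (s * b' * s) * (s * tv k k' hne t * ν) := by
    calc s * (b' * tv k k' hne t) * ν = s * b' * (1 : GL (Fin n) F) * tv k k' hne t * ν := by group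
      _ = s * b' * (s * s) * tv k k' hne t * ν := by rw [hss]
      _ = (s * b' * s) * (s * tv k k' hne t * ν) := by group
  rw [e1]
  by_cases ht : t = 0
  · left
    rw [ht, tv_zero, mul_one, mem_doubleCoset]
    exact ⟨_, hc, 1, one_mem _, by rw [mul_one]⟩
  · obtain ⟨t', ht'⟩ := tv_mul_mono hσ k k' hne t
    rcases lt_or_gt_of_ne (fun h => hne (σ⁻¹.injective h) : σ⁻¹ k ≠ σ⁻¹ k') with hlt' | hlt'
    · left
      rw [mem_doubleCoset]
      refine ⟨_, hc, tv (σ⁻¹ k) (σ⁻¹ k') _ t', tv_mem_upper hlt' t', ?_⟩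
      have e3 : s * tv k k' hne t * ν = (s * ν) * tv (σ⁻¹ k) (σ⁻¹ k')
          (fun h => hne (σ⁻¹.injective h)) t' := by
        rw [mul_assoc, ht', ← mul_assoc]
      rw [e3]
      exact (mul_assoc _ _ _).symm
    · right
      have hu := sl2_upper hk hne t ht
      obtain ⟨t'', ht''⟩ := tv_mul_mono hσ k' k hne.symm (1 / t)
      rw [mem_doubleCoset]
      refine ⟨(s * b' * s) * (s * tv k k' hne t * tv k' k hne.symm (-(1 / t))), mul_mem hc hu,
        tv (σ⁻¹ k') (σ⁻¹ k) _ t'', tv_mem_upper hlt' t'', ?_⟩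
      have e2 : s * tv k k' hne t * ν =
          (s * tv k k' hne t * tv k' k hne.symm (-(1 / t))) * (tv k' k hne.symm (1 / t) * ν) := by
        have : tv k' k hne.symm (-(1 / t)) * tv k' k hne.symm (1 / t) = 1 := by
          rw [tv_mul_tv, neg_add_cancel, tv_zero]
        calc s * tv k k' hne t * ν = s * tv k k' hne t * 1 * ν := by group
          _ = s * tv k k' hne t * (tv k' k hne.symm (-(1 / t)) * tv k' k hne.symm (1 / t)) * ν := by
              rw [this]
          _ = _ := by group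
      rw [e2, ht'']
      simp only [mul_assoc]

/-- conjugating a lower transvection to an upper one -/
theorem tv_eq_conj (i j : Fin n) (hij : i ≠ j) (c : F) :
    tv i j hij c = permGL (Equiv.swap i j) * tv j i hij.symm c * permGL (Equiv.swap i j) := by
  apply Units.ext
  ext a b
  rw [Units.val_mul, Units.val_mul, permGL_coe, mul_pm_apply, pm_mul_apply, Equiv.swap_inv, tv_coe,
    tv_coe, transvection_apply, transvection_apply]
  have h1 : (Equiv.swap i j a = Equiv.swap i j b) ↔ a = b := (Equiv.swap i j).injective.eq_iff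
  have h2 : (j = Equiv.swap i j a ∧ i = Equiv.swap i j b) ↔ (i = a ∧ j = b) := by
    constructor
    · rintro ⟨ha, hb⟩
      constructor
      · have := congrArg (Equiv.swap i j) ha
        rw [Equiv.swap_apply_right, Equiv.swap_apply_self] at this
        exact this
      · have := congrArg (Equiv.swap i j) hb
        rw [Equiv.swap_apply_left, Equiv.swap_apply_self] at this
        exact this
    · rintro ⟨rfl, rfl⟩
      rw [Equiv.swap_apply_left, Equiv.swap_apply_right]
      exact ⟨rfl, rfl⟩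
  simp only [h1, h2]

theorem tv_mem_sup (i j : Fin n) (hij : i ≠ j) (c : F) :
    tv i j hij c ∈ upperTriangularGL n F ⊔ monoN n F := by
  rcases lt_or_gt_of_ne hij with h | h
  · exact Subgroup.mem_sup_left (tv_mem_upper h c)
  · rw [tv_eq_conj]
    exact mul_mem (mul_mem (Subgroup.mem_sup_right (permGL_mem _))
      (Subgroup.mem_sup_left (tv_mem_upper h c))) (Subgroup.mem_sup_right (permGL_mem _))

theorem exists_list_prod (L : List (TransvectionStruct (Fin n) F)) :
    ∃ ℓ : GL (Fin n) F, ℓ ∈ upperTriangularGL n F ⊔ monoN n F ∧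
      (ℓ : Matrix (Fin n) (Fin n) F) = (L.map TransvectionStruct.toMatrix).prod := by
  induction L with
  | nil => exact ⟨1, one_mem _, by simp⟩
  | cons t L ih =>
    obtain ⟨ℓ, h1, h2⟩ := ih
    refine ⟨tv t.i t.j t.hij t.c * ℓ, mul_mem (tv_mem_sup _ _ _ _) h1, ?_⟩
    rw [Units.val_mul, h2, List.map_cons, List.prod_cons]
    rfl

theorem sup_eq_top_aux : upperTriangularGL n F ⊔ monoN n F = ⊤ := by
  rw [eq_top_iff]
  intro g _
  obtain ⟨L, L', D, hg⟩ := Pivot.exists_list_transvec_mul_diagonal_mul_list_transvec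
    (g : Matrix (Fin n) (Fin n) F)
  obtain ⟨ℓ, h1, h2⟩ := exists_list_prod L
  obtain ⟨ℓ', h1', h2'⟩ := exists_list_prod L'
  have hd : IsMono ((ℓ⁻¹ * g * ℓ'⁻¹ : GL (Fin n) F) : Matrix (Fin n) (Fin n) F) 1 := by
    have e : ((ℓ⁻¹ * g * ℓ'⁻¹ : GL (Fin n) F) : Matrix (Fin n) (Fin n) F) = diagonal D := by
      rw [Units.val_mul, Units.val_mul, hg, ← h2, ← h2']
      have a1 : ((ℓ⁻¹ : GL (Fin n) F) : Matrix (Fin n) (Fin n) F) * (ℓ : Matrix (Fin n) (Fin n) F)
          = 1 := by rw [← Units.val_mul, inv_mul_cancel]; rfl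
      have a2 : (ℓ' : Matrix (Fin n) (Fin n) F) * ((ℓ'⁻¹ : GL (Fin n) F) : Matrix (Fin n) (Fin n) F)
          = 1 := by rw [← Units.val_mul, mul_inv_cancel]; rfl
      calc ((ℓ⁻¹ : GL (Fin n) F) : Matrix (Fin n) (Fin n) F) *
            ((ℓ : Matrix (Fin n) (Fin n) F) * diagonal D * (ℓ' : Matrix (Fin n) (Fin n) F)) *
            ((ℓ'⁻¹ : GL (Fin n) F) : Matrix (Fin n) (Fin n) F)
          = (((ℓ⁻¹ : GL (Fin n) F) : Matrix (Fin n) (Fin n) F) * (ℓ : Matrix (Fin n) (Fin n) F)) *
            diagonal D * ((ℓ' : Matrix (Fin n) (Fin n) F) *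
            ((ℓ'⁻¹ : GL (Fin n) F) : Matrix (Fin n) (Fin n) F)) := by
            simp only [Matrix.mul_assoc]
        _ = diagonal D := by rw [a1, a2, Matrix.one_mul, Matrix.mul_one]
    rw [e]
    intro i j hij
    rw [diagonal_apply, if_neg]
    simpa using hij
  have hmem : ℓ⁻¹ * g * ℓ'⁻¹ ∈ upperTriangularGL n F ⊔ monoN n F :=
    Subgroup.mem_sup_left (mem_upper_of_isMono_one hd)
  have : g = ℓ * (ℓ⁻¹ * g * ℓ'⁻¹) * ℓ' := by group
  rw [this]
  exact mul_mem (mul_mem h1 hmem) h1'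

theorem permGL_mem_closure (σ : Equiv.Perm (Fin n)) :
    (permGL σ : GL (Fin n) F) ∈ Subgroup.closure (adjS n F) := by
  cases n with
  | zero =>
    have : σ = 1 := Subsingleton.elim _ _
    rw [this, map_one]; exact one_mem _
  | succ m =>
    have hσ : σ ∈ Submonoid.closure
        (Set.range fun i : Fin m => Equiv.swap i.castSucc i.succ) := by
      rw [Equiv.Perm.mclosure_swap_castSucc_succ]; trivial
    induction hσ using Submonoid.closure_induction with
    | mem x hx =>
      obtain ⟨i, rfl⟩ := hx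
      apply Subgroup.subset_closure
      exact ⟨i.castSucc, i.succ, by simp, rfl⟩
    | one => rw [map_one]; exact one_mem _
    | mul x y _ _ hx hy => rw [map_mul]; exact mul_mem hx hy

theorem closure_sup_aux :
    Subgroup.closure (adjS n F) ⊔ (upperTriangularGL n F ⊓ monoN n F) = monoN n F := by
  apply le_antisymm
  · apply sup_le
    · rw [Subgroup.closure_le]
      rintro g ⟨k, k', -, rfl⟩
      exact permGL_mem _
    · exact inf_le_right
  · intro ν hν
    obtain ⟨σ, hσ⟩ := hν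
    have hd : IsMono (((permGL σ)⁻¹ * ν : GL (Fin n) F) : Matrix (Fin n) (Fin n) F) 1 := by
      have h1 : IsMono (((permGL σ : GL (Fin n) F)⁻¹ : GL (Fin n) F) : Matrix (Fin n) (Fin n) F) σ⁻¹ :=
        (isMono_pm σ : IsMono ((permGL σ : GL (Fin n) F) : Matrix (Fin n) (Fin n) F) σ).inv
      have := h1.mul hσ
      rw [inv_mul_cancel] at this
      rw [Units.val_mul]; exact this
    have : ν = permGL σ * ((permGL σ)⁻¹ * ν) := by group
    rw [this]
    exact mul_mem (Subgroup.mem_sup_left (permGL_mem_closure σ))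
      (Subgroup.mem_sup_right ⟨mem_upper_of_isMono_one hd, ⟨1, hd⟩⟩)

/-- **The (B,N)-pair of `GL_n(F)`.** -/
def glBN (n : ℕ) (F : Type*) [Field F] : Cfsg.BNPair (GL (Fin n) F) where
  B := upperTriangularGL n F
  N := monoN n F
  S := adjS n F
  sup_eq_top := sup_eq_top_aux
  conj_mem := by
    rintro ν ⟨σ, hσ⟩ t ⟨htB, ρ, hρ⟩
    have h1 : ρ = 1 := perm_eq_one_of_upper hρ htB
    subst h1
    apply mem_upper_of_isMono_one
    have := (hσ.mul hρ).mul hσ.inv
    rw [mul_one, mul_inv_cancel] at this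
    rw [Units.val_mul, Units.val_mul]; exact this
  subset := by
    rintro g ⟨k, k', -, rfl⟩
    exact permGL_mem _
  sq_mem := by
    rintro g ⟨k, k', -, rfl⟩
    rw [permGL_swap_mul_self]; exact one_mem _
  inj := by
    rintro g ⟨k, k', -, rfl⟩ g' ⟨l, l', -, rfl⟩ h
    rw [← map_inv, ← map_mul] at h
    have := perm_eq_one_of_upper (isMono_pm _) h
    rw [inv_mul_eq_one] at this
    rw [this]
  closure_sup := closure_sup_aux
  mul_mem_union := fun s hs ν hν b hb => mul_mem_union_aux hs hν hb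
  conj_ne := by
    rintro g ⟨k, k', hk, rfl⟩ heq
    have hlt : k < k' := by rw [Fin.lt_def]; omega
    have hmem : permGL (Equiv.swap k k') * tv k k' (ne_of_lt hlt) (1 : F) * permGL (Equiv.swap k k')
        ∈ (upperTriangularGL n F : Set (GL (Fin n) F)) := by
      rw [← heq]
      exact ⟨_, tv_mem_upper hlt 1, rfl⟩
    have h0 := (mem_upper.1 hmem) k' k hlt
    rw [Units.val_mul, Units.val_mul, permGL_coe, mul_pm_apply, pm_mul_apply, Equiv.swap_inv,
      Equiv.swap_apply_right, Equiv.swap_apply_left, tv_coe, transvection_apply,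
      if_neg (ne_of_lt hlt), if_pos ⟨rfl, rfl⟩, zero_add] at h0
    exact one_ne_zero h0

end Cfsg.Agent.Lib.Helper5.GLBN
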