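import Mathlib
import Cfsg.Agent.Lib.Helper5.GLBN.Pair
import Cfsg.Agent.Lib.Helper5.BNSteinberg

/-!
# The Weyl group of `GL_n(F)` is the symmetric group
-/

set_option autoImplicit false

namespace Cfsg.Agent.Lib.Helper5.GLBN

open Matrix Cfsg.Agent.Lib.Helper5.BN
open scoped MatrixGroups

variable {n : ℕ} {F : Type*} [Field F]

theorem glBN_B : (glBN n F).B = upperTriangularGL n F := rfl

theorem glBN_N : (glBN n F).N = monoN n F := rfl

theorem glBN_S : (glBN n F).S = adjS n F := rfl

theorem mem_glBN_N (g : GL (Fin n) F) :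
    g ∈ (glBN n F).N ↔ ∃ σ : Equiv.Perm (Fin n), IsMono (g : Matrix (Fin n) (Fin n) F) σ :=
  Iff.rfl

/-- the permutation of a monomial matrix -/
noncomputable def permOf (ν : (glBN n F).N) : Equiv.Perm (Fin n) :=
  Classical.choose ((mem_glBN_N _).1 ν.2)

theorem isMono_permOf (ν : (glBN n F).N) :
    IsMono ((ν : GL (Fin n) F) : Matrix (Fin n) (Fin n) F) (permOf ν) :=
  Classical.choose_spec ((mem_glBN_N _).1 ν.2)

theorem permOf_eq {ν : (glBN n F).N} {σ : Equiv.Perm (Fin n)}
    (h : IsMono ((ν : GL (Fin n) F) : Matrix (Fin n) (Fin n) F) σ) : permOf ν = σ :=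
  (isMono_permOf ν).unique h

/-- the homomorphism from the monomial group onto the symmetric group -/
noncomputable def permHom (n : ℕ) (F : Type*) [Field F] :
    (glBN n F).N →* Equiv.Perm (Fin n) where
  toFun := permOf
  map_one' := permOf_eq isMono_one
  map_mul' a b := permOf_eq (by
    rw [Subgroup.coe_mul, Units.val_mul]
    exact (isMono_permOf a).mul (isMono_permOf b))

theorem permHom_apply (ν : (glBN n F).N) : permHom n F ν = permOf ν := rfl

theorem permHom_eq_one_iff (ν : (glBN n F).N) :
    permHom n F ν = 1 ↔ (ν : GL (Fin n) F) ∈ (glBN n F).B := by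
  constructor
  · intro h
    apply mem_upper_of_isMono_one
    rw [← h]; exact isMono_permOf ν
  · intro h
    exact perm_eq_one_of_upper (isMono_permOf ν) h

/-- the permutation matrix as an element of `N` -/
noncomputable def permN (σ : Equiv.Perm (Fin n)) : (glBN n F).N := ⟨permGL σ, permGL_mem σ⟩

theorem permN_coe (σ : Equiv.Perm (Fin n)) : ((permN σ : (glBN n F).N) : GL (Fin n) F) = permGL σ :=
  rfl

theorem permHom_permN (σ : Equiv.Perm (Fin n)) :
    permHom n F (permN σ) = σ := permOf_eq (isMono_pm σ)

/-- the isomorphism of the Weyl group with the symmetric group -/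
noncomputable def phi (n : ℕ) (F : Type*) [Field F] : W (glBN n F) →* Equiv.Perm (Fin n) :=
  QuotientGroup.lift (T (glBN n F)) (permHom n F) (by
    intro ν hν
    rw [MonoidHom.mem_ker, permHom_eq_one_iff]
    exact (mem_T (glBN n F)).1 hν)

theorem phi_proj (ν : (glBN n F).N) : phi n F (proj (glBN n F) ν) = permHom n F ν := rfl

theorem phi_injective : Function.Injective (phi n F) := by
  rw [injective_iff_map_eq_one]
  intro w hw
  obtain ⟨ν, rfl⟩ := proj_surjective (glBN n F) w
  rw [phi_proj, permHom_eq_one_iff] at hw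
  rw [proj_eq_one_iff]
  exact hw

theorem phi_surjective : Function.Surjective (phi n F) := by
  intro σ
  exact ⟨proj (glBN n F) (permN σ), permHom_permN σ⟩

theorem phi_bijective : Function.Bijective (phi n F) := ⟨phi_injective, phi_surjective⟩

theorem phi_proj_permN (σ : Equiv.Perm (Fin n)) : phi n F (proj (glBN n F) (permN σ)) = σ :=
  permHom_permN σ

end Cfsg.Agent.Lib.Helper5.GLBN
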