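import Mathlib
import Cfsg.Prelude.Def_LinearParabolics
import Cfsg.Agent.Lib.Helper5.GLBN.Weyl

/-!
# The block upper triangular subgroups of `GL_n(F)` as parabolic subgroups of its (B,N)-pair
-/

set_option autoImplicit false

namespace Cfsg.Agent.Lib.Helper5.GLBN

open Matrix Cfsg.Agent.Lib.Helper5.BN
open scoped MatrixGroups

variable {n : ℕ} {F : Type*} [Field F]

theorem compLabel_mono (μ : Fin n → ℕ) {i i' : Fin n} (h : i ≤ i') :
    compLabel μ i ≤ compLabel μ i' := by
  unfold compLabel
  apply Finset.card_le_card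
  intro j hj
  rw [Finset.mem_filter] at hj ⊢
  exact ⟨hj.1, le_trans hj.2 (Fin.le_def.1 h)⟩

theorem mem_parabolicGL {μ : Fin n → ℕ} {g : GL (Fin n) F} :
    g ∈ parabolicGL n F μ ↔
      ∀ i j : Fin n, compLabel μ j < compLabel μ i → (g : Matrix (Fin n) (Fin n) F) i j = 0 := by
  constructor
  · intro h i j hij; exact h hij
  · intro h i j hij; exact h i j hij

theorem upper_le_parabolicGL (μ : Fin n → ℕ) : upperTriangularGL n F ≤ parabolicGL n F μ := by
  intro g hg
  rw [mem_parabolicGL]
  intro i j hij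
  apply (mem_upper.1 hg) i j
  by_contra hcon
  push Not at hcon
  have := compLabel_mono μ hcon
  omega

/-- a monomial matrix is block upper triangular iff its permutation lies in the Young subgroup -/
theorem mono_mem_parabolicGL_iff {μ : Fin n → ℕ} {g : GL (Fin n) F} {σ : Equiv.Perm (Fin n)}
    (h : IsMono (g : Matrix (Fin n) (Fin n) F) σ) :
    g ∈ parabolicGL n F μ ↔ σ ∈ youngSubgroup μ := by
  constructor
  · intro hg
    rw [mem_parabolicGL] at hg
    have hle : ∀ j ∈ (Finset.univ : Finset (Fin n)), compLabel μ (σ j) ≤ compLabel μ j := by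
      intro j _
      by_contra hcon
      push Not at hcon
      exact h.apply_ne_zero j (hg (σ j) j hcon)
    have hsum : ∑ j, compLabel μ (σ j) = ∑ j, compLabel μ j :=
      Equiv.sum_comp σ (fun j => compLabel μ j)
    have := (Finset.sum_eq_sum_iff_of_le hle).1 hsum
    intro j
    exact this j (Finset.mem_univ j)
  · intro hσ
    rw [mem_parabolicGL]
    intro i j hij
    apply h
    intro e
    rw [e, hσ j] at hij
    exact lt_irrefl _ hij

/-- the simple reflections in the block upper triangular subgroup -/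
def Jset (n : ℕ) (F : Type*) [Field F] (μ : Fin n → ℕ) : Set (GL (Fin n) F) :=
  {s | s ∈ (glBN n F).S ∧ s ∈ parabolicGL n F μ}

theorem Jset_subset (μ : Fin n → ℕ) : Jset n F μ ⊆ (glBN n F).S := fun _ hs => hs.1

theorem parabolicGL_eq (μ : Fin n → ℕ) :
    parabolicGL n F μ = (glBN n F).parabolic (Jset n F μ) :=
  eq_parabolic_of_le (glBN n F) _ (upper_le_parabolicGL μ)

theorem proj_mem_closure_iff (μ : Fin n → ℕ) (ν : (glBN n F).N) :
    proj (glBN n F) ν ∈ Subgroup.closure (bar (glBN n F) (Jset n F μ)) ↔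
      (ν : GL (Fin n) F) ∈ parabolicGL n F μ := by
  have hself : (ν : GL (Fin n) F) ∈ C (glBN n F) (proj (glBN n F) ν) := by
    rw [C_proj]; exact self_mem_D _ _
  rw [parabolicGL_eq, mem_parabolic_iff_W (glBN n F) (Jset_subset μ)]
  constructor
  · intro h
    exact ⟨_, h, hself⟩
  · rintro ⟨w, hw, hν⟩
    rw [bruhat (glBN n F) (C_inj_of_inter (glBN n F) hself hν)]
    exact hw

/-- the parabolic subgroups of the Weyl group correspond to the Young subgroups -/
theorem phi_mem_young_iff (μ : Fin n → ℕ) (w : W (glBN n F)) :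
    phi n F w ∈ youngSubgroup μ ↔ w ∈ Subgroup.closure (bar (glBN n F) (Jset n F μ)) := by
  obtain ⟨ν, rfl⟩ := proj_surjective (glBN n F) w
  rw [proj_mem_closure_iff, phi_proj, permHom_apply,
    mono_mem_parabolicGL_iff (isMono_permOf ν)]

end Cfsg.Agent.Lib.Helper5.GLBN
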