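import Mathlib
import Cfsg.Prelude.Def_LinearParabolics
import Cfsg.Prelude.Def_ParabolicCharacters
import Cfsg.Agent.Lib.Helper5.GLBN.Parab
import Cfsg.Agent.Lib.Helper5.BNSteinberg

/-!
# Comparison of the flag characters of `GL_n(F)` with the symmetric group

For arbitrary `α β : Fin n → ℕ` the inner product of the permutation characters of `GL_n(F)` on the
cosets of the block upper triangular subgroups `parabolicGL n F α`, `parabolicGL n F β` equals the
inner product of the permutation characters of the symmetric group on the cosets of the Young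
subgroups: both count the double cosets, which are parametrized by the distinguished double coset
representatives in the Weyl group.
-/

set_option autoImplicit false

namespace Cfsg.Agent.Lib.Helper5.GLBN

open Matrix Cfsg.Agent.Lib.Helper5.BN
open scoped MatrixGroups

section generic

variable {G : Type*} [Group G] (H K : Subgroup G)

/-- the orbit of the pair of cosets `(H, y K)` -/
def orbG (y : G) : Quotient (MulAction.orbitRel G ((G ⧸ H) × (G ⧸ K))) :=
  Quotient.mk _ ((QuotientGroup.mk 1 : G ⧸ H), (QuotientGroup.mk y : G ⧸ K))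

theorem orbG_eq_iff (y y' : G) :
    orbG H K y = orbG H K y' ↔ ∃ p ∈ H, ∃ k ∈ K, y = p * y' * k := by
  unfold orbG
  rw [Quotient.eq]
  show MulAction.orbitRel G _ _ _ ↔ _
  rw [MulAction.orbitRel_apply, MulAction.mem_orbit_iff]
  constructor
  · rintro ⟨g, hg⟩
    have h1 := congrArg Prod.fst hg
    have h2 := congrArg Prod.snd hg
    simp only [Prod.smul_fst, Prod.smul_snd, MulAction.Quotient.smul_mk, smul_eq_mul] at h1 h2
    rw [QuotientGroup.eq] at h1 h2
    rw [mul_one] at h1
    refine ⟨g, ?_, (g * y')⁻¹ * y, h2, by group⟩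
    have := inv_mem h1
    rwa [mul_one, inv_inv] at this
  · rintro ⟨p, hp, k, hk, rfl⟩
    refine ⟨p, ?_⟩
    apply Prod.ext
    · simp only [Prod.smul_fst, MulAction.Quotient.smul_mk, smul_eq_mul]
      rw [QuotientGroup.eq, mul_one, mul_one]
      exact inv_mem hp
    · simp only [Prod.smul_snd, MulAction.Quotient.smul_mk, smul_eq_mul]
      rw [QuotientGroup.eq]
      have : (p * y')⁻¹ * (p * y' * k) = k := by group
      rw [this]
      exact hk

theorem orbG_surjective
    (q : Quotient (MulAction.orbitRel G ((G ⧸ H) × (G ⧸ K)))) :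
    ∃ y, orbG H K y = q := by
  obtain ⟨⟨c, d⟩, rfl⟩ := Quotient.mk_surjective q
  induction c using QuotientGroup.induction_on with
  | H g =>
  induction d using QuotientGroup.induction_on with
  | H h =>
    refine ⟨g⁻¹ * h, ?_⟩
    unfold orbG
    rw [Quotient.eq]
    show MulAction.orbitRel G _ _ _
    rw [MulAction.orbitRel_apply, MulAction.mem_orbit_iff]
    refine ⟨g⁻¹, ?_⟩
    apply Prod.ext
    · simp only [Prod.smul_fst, MulAction.Quotient.smul_mk, smul_eq_mul, inv_mul_cancel]
    · simp only [Prod.smul_snd, MulAction.Quotient.smul_mk, smul_eq_mul]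

/-- the orbits on pairs of cosets are counted by any system of double coset representatives -/
theorem card_orbits_of_reps {R : Type*} (r : R → G)
    (h1 : ∀ g : G, ∃ x : R, ∃ h ∈ H, ∃ k ∈ K, g = h * r x * k)
    (h2 : ∀ x x' : R, ∀ h ∈ H, ∀ k ∈ K, r x' = h * r x * k → x' = x) :
    Nat.card (Quotient (MulAction.orbitRel G ((G ⧸ H) × (G ⧸ K)))) = Nat.card R := by
  symm
  apply Nat.card_congr
  refine Equiv.ofBijective (fun x => orbG H K (r x)) ⟨?_, ?_⟩
  · intro x x' h
    simp only at h
    rw [orbG_eq_iff] at h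
    obtain ⟨p, hp, k, hk, e⟩ := h
    exact h2 x' x p hp k hk e
  · intro q
    obtain ⟨y, rfl⟩ := orbG_surjective H K q
    obtain ⟨x, h, hh, k, hk, e⟩ := h1 y
    refine ⟨x, ?_⟩
    simp only
    rw [orbG_eq_iff]
    refine ⟨h⁻¹, inv_mem hh, k⁻¹, inv_mem hk, ?_⟩
    rw [e]; group

/-- the inner product of two permutation characters is the number of orbits on pairs -/
theorem inner_fixedPoint [Fintype G] :
    (Nat.card G : ℂ)⁻¹ * ∑ g : G, fixedPointCharacter H g * fixedPointCharacter K g
      = (Nat.card (Quotient (MulAction.orbitRel G ((G ⧸ H) × (G ⧸ K)))) : ℂ) := by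
  unfold fixedPointCharacter
  have h := sum_fixedBy_mul (G := G) (G ⧸ H) (G ⧸ K)
  have h' : (∑ g : G, (Nat.card (MulAction.fixedBy (G ⧸ H) g) : ℂ) *
      (Nat.card (MulAction.fixedBy (G ⧸ K) g) : ℂ))
      = (Nat.card (Quotient (MulAction.orbitRel G ((G ⧸ H) × (G ⧸ K)))) : ℂ) * (Nat.card G : ℂ) := by
    rw [← Nat.cast_mul, ← h, Nat.cast_sum]
    simp only [Nat.cast_mul]
  rw [h']
  have hne : (Nat.card G : ℂ) ≠ 0 := Nat.cast_ne_zero.2 Nat.card_pos.ne'
  field_simp

theorem card_orbits_congr {H H' K K' : Subgroup G} (hH : H = H') (hK : K = K') :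
    Nat.card (Quotient (MulAction.orbitRel G ((G ⧸ H) × (G ⧸ K))))
      = Nat.card (Quotient (MulAction.orbitRel G ((G ⧸ H') × (G ⧸ K')))) := by
  subst hH; subst hK; rfl

end generic

variable {n : ℕ} {F : Type*} [Field F]

/-- the double cosets of two Young subgroups are counted by the distinguished representatives -/
theorem card_orbits_perm (α β : Fin n → ℕ) :
    Nat.card (Quotient (MulAction.orbitRel (Equiv.Perm (Fin n))
        ((Equiv.Perm (Fin n) ⧸ youngSubgroup α) × (Equiv.Perm (Fin n) ⧸ youngSubgroup β))))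
      = Nat.card (DD (glBN n F) (bar (glBN n F) (Jset n F α)) (bar (glBN n F) (Jset n F β))) := by
  have hA' := bar_subset_Sbar (glBN n F) (Jset_subset (F := F) α)
  have hA := bar_subset_Sbar (glBN n F) (Jset_subset (F := F) β)
  apply card_orbits_of_reps (youngSubgroup α) (youngSubgroup β)
    (fun x : DD (glBN n F) (bar (glBN n F) (Jset n F α)) (bar (glBN n F) (Jset n F β)) =>
      phi n F x.1)
  · intro σ
    obtain ⟨w, rfl⟩ := phi_surjective (n := n) (F := F) σ
    obtain ⟨x, hx, a, ha, b, hb, hw⟩ := exists_DD (glBN n F) hA hA' w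
    refine ⟨⟨x, hx⟩, phi n F a, (phi_mem_young_iff α a).2 ha, phi n F b,
      (phi_mem_young_iff β b).2 hb, ?_⟩
    rw [hw, map_mul, map_mul]
  · rintro ⟨x, hx⟩ ⟨x', hx'⟩ h hh k hk e
    obtain ⟨a, rfl⟩ := phi_surjective (n := n) (F := F) h
    obtain ⟨b, rfl⟩ := phi_surjective (n := n) (F := F) k
    simp only at e
    rw [← map_mul, ← map_mul] at e
    have e' := phi_injective e
    apply Subtype.ext
    exact DD_unique (glBN n F) hA hA' _ x x' a b hx hx' ((phi_mem_young_iff α a).1 hh)
      ((phi_mem_young_iff β b).1 hk) rfl e'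

/-- **Comparison of flag characters** of `GL_n(F)` and of the symmetric group, for arbitrary
block labellings. -/
theorem flag_comparison (n : ℕ) (F : Type*) [Field F] [Fintype (GL (Fin n) F)]
    (α β : Fin n → ℕ) :
    (Nat.card (GL (Fin n) F) : ℂ)⁻¹ * ∑ g : GL (Fin n) F,
        fixedPointCharacter (parabolicGL n F α) g * fixedPointCharacter (parabolicGL n F β) g =
      (Nat.card (Equiv.Perm (Fin n)) : ℂ)⁻¹ * ∑ σ : Equiv.Perm (Fin n),
        fixedPointCharacter (youngSubgroup α) σ * fixedPointCharacter (youngSubgroup β) σ := by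
  rw [inner_fixedPoint, inner_fixedPoint,
    card_orbits_congr (parabolicGL_eq α) (parabolicGL_eq β),
    card_orbits_eq (glBN n F) (Jset_subset α) (Jset_subset β), card_orbits_perm (F := F)]

end Cfsg.Agent.Lib.Helper5.GLBN
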